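import Mathlib

/-!
# Normalising lifts of the generators of the Harada–Norton presentation in a central extension

`z` inverts `x`, `x` has order dividing four in the extension, and conjugation by `x` takes `t` to `t⁻²`; the two
scalars left by `z ^ 2` and `(z * t) ^ 3` satisfy `a ^ 3 = h ^ 2`, so that they can be removed together.
-/

set_option autoImplicit false

namespace Cfsg.Agent.HNMult

open Subgroup

variable {E : Type*} [Group E]

/-- A lift of `t` with `t ^ 5 = 1` and `t ^ x * t ^ 2 = 1`. -/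
theorem exists_t {A : Subgroup E} (hA : A ≤ center E) {x t : E} (h5 : t ^ 5 ∈ A)
    (hx : x⁻¹ * t * x * t ^ 2 ∈ A) :
    ∃ d ∈ A, (t * d) ^ 5 = 1 ∧ x⁻¹ * (t * d) * x * (t * d) ^ 2 = 1 := by
  set f := x⁻¹ * t * x * t ^ 2 with hfdef
  set e := t ^ 5 with hedef
  have cA : ∀ a ∈ A, ∀ g : E, Commute a g := fun a ha g => (mem_center_iff.1 (hA ha) g).symm
  have hf : ∀ g : E, Commute f g := cA f hx
  have he : ∀ g : E, Commute e g := cA e h5
  -- the relation between the two scalars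
  have hfe : e ^ 3 = f ^ 5 := by
    have h1 : x⁻¹ * t * x = f * (t ^ 2)⁻¹ := by rw [hfdef]; group
    have h2 : (x⁻¹ * t * x) ^ 5 = e := by
      have hconj : (x⁻¹ * t * x) ^ 5 = x⁻¹ * t ^ 5 * x := by
        have := conj_pow (i := 5) (a := x⁻¹) (b := t)
        rwa [inv_inv] at this
      rw [hconj, ← hedef, mul_assoc, (he x).eq]
      group
    rw [h1, (hf _).mul_pow, inv_pow, ← pow_mul, show 2 * 5 = 5 * 2 from rfl, pow_mul, ← hedef] at h2
    calc e ^ 3 = e * e ^ 2 := by rw [← pow_succ']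
      _ = f ^ 5 * (e ^ 2)⁻¹ * e ^ 2 := by rw [h2]
      _ = f ^ 5 := by group
  refine ⟨(f ^ 2)⁻¹ * e, mul_mem (inv_mem (pow_mem hx 2)) h5, ?_, ?_⟩
  · have hd : Commute t ((f ^ 2)⁻¹ * e) :=
      (((hf t).pow_left 2).symm.inv_right).mul_right (he t).symm
    rw [hd.mul_pow, ← hedef, (((hf e).pow_left 2).inv_left).mul_pow, inv_pow, ← pow_mul]
    calc e * ((f ^ (2 * 5))⁻¹ * e ^ 5) = (f ^ (2 * 5))⁻¹ * (e * e ^ 5) := by
          rw [← mul_assoc, (he _).eq, mul_assoc]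
      _ = (f ^ (2 * 5))⁻¹ * (e ^ 3) ^ 2 := by rw [← pow_succ', ← pow_mul e 3 2]
      _ = 1 := by rw [hfe, ← pow_mul, show 5 * 2 = 2 * 5 from rfl, inv_mul_cancel]
  · set d := (f ^ 2)⁻¹ * e with hddef
    have hd : ∀ g : E, Commute d g := cA d (mul_mem (inv_mem (pow_mem hx 2)) h5)
    have hd3 : d ^ 3 = f⁻¹ := by
      rw [hddef, (((hf e).pow_left 2).inv_left).mul_pow, hfe, inv_pow, ← pow_mul]
      group
    calc x⁻¹ * (t * d) * x * (t * d) ^ 2 = x⁻¹ * t * x * d * (t ^ 2 * d ^ 2) := by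
          rw [(hd t).symm.mul_pow]
          simp only [mul_assoc]
          rw [← mul_assoc d x, (hd x).eq, mul_assoc]
      _ = x⁻¹ * t * x * t ^ 2 * d ^ 3 := by
          rw [mul_assoc _ d, ← mul_assoc d (t ^ 2), (hd (t ^ 2)).eq, mul_assoc (t ^ 2) d, ← pow_succ',
            ← mul_assoc]
      _ = 1 := by rw [← hfdef, hd3, mul_inv_cancel]

/-- The commutator of `t` with `y` vanishes. -/
theorem comm_ty {t y : E} (h5 : t ^ 5 = 1) (hy : y ^ 6 = 1)
    (hg : t⁻¹ * y⁻¹ * t * y ∈ center E) : t⁻¹ * y⁻¹ * t * y = 1 := by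
  set g := t⁻¹ * y⁻¹ * t * y with hgdef
  have hgc : ∀ u : E, Commute g u := fun u => (mem_center_iff.1 hg u).symm
  have h1 : y⁻¹ * t * y = t * g := by rw [hgdef]; group
  have hpow : ∀ n : ℕ, (y ^ n)⁻¹ * t * y ^ n = t * g ^ n := by
    intro n
    induction n with
    | zero => simp
    | succ n ih =>
      calc (y ^ (n + 1))⁻¹ * t * y ^ (n + 1) = y⁻¹ * ((y ^ n)⁻¹ * t * y ^ n) * y := by
            rw [pow_succ]; group
        _ = y⁻¹ * t * g ^ n * y := by rw [ih]; simp only [mul_assoc]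
        _ = y⁻¹ * t * y * g ^ n := by rw [mul_assoc _ (g ^ n), ((hgc y).pow_left n).eq, ← mul_assoc]
        _ = t * g ^ (n + 1) := by rw [h1, mul_assoc, ← pow_succ']
  have h6 : g ^ 6 = 1 := by
    have := hpow 6
    rw [hy] at this
    simpa using this
  have hg5 : g ^ 5 = 1 := by
    have h2 : (y⁻¹ * t * y) ^ 5 = 1 := by
      have := conj_pow (i := 5) (a := y⁻¹) (b := t)
      rw [inv_inv] at this
      rw [this, h5]
      group
    rw [h1, (hgc t).symm.mul_pow, h5, one_mul] at h2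
    exact h2
  rw [pow_succ, hg5, one_mul] at h6
  exact h6

/-- The scalars of `z ^ 2` and `(z * t) ^ 3`: the square of the second is the cube of the first. -/
theorem scalar_eq {z t q : E} (hq : q⁻¹ * z * q = z) (htq : q⁻¹ * t * q = t⁻¹)
    (ha : z ^ 2 ∈ center E) (hh : (z * t) ^ 3 ∈ center E) : ((z * t) ^ 3) ^ 2 = (z ^ 2) ^ 3 := by
  set a := z ^ 2 with hadef
  set h := (z * t) ^ 3 with hhdef
  have hac : ∀ u : E, Commute a u := fun u => (mem_center_iff.1 ha u).symm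
  have hhc : ∀ u : E, Commute h u := fun u => (mem_center_iff.1 hh u).symm
  have hzinv : z⁻¹ = a⁻¹ * z := by rw [hadef, pow_two]; group
  have hconj : (z * t⁻¹) ^ 3 = h := by
    have h1 : z * t⁻¹ = q⁻¹ * (z * t) * q := by
      calc z * t⁻¹ = q⁻¹ * z * q * (q⁻¹ * t * q) := by rw [hq, htq]
        _ = _ := by group
    have h2 := conj_pow (i := 3) (a := q⁻¹) (b := z * t)
    rw [inv_inv] at h2
    rw [h1, h2, ← hhdef, mul_assoc, (hhc q).eq]
    group
  have htz : (t * z) ^ 3 = h := by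
    have h1 : t * z = z⁻¹ * (z * t) * z := by group
    have h2 := conj_pow (i := 3) (a := z⁻¹) (b := z * t)
    rw [inv_inv] at h2
    rw [h1, h2, ← hhdef, mul_assoc, (hhc z).eq]
    group
  have h3 : (a⁻¹ * (t * z)) ^ 3 = h⁻¹ := by
    have h4 : a⁻¹ * (t * z) = (z * t⁻¹)⁻¹ := by
      rw [mul_inv_rev, inv_inv, hzinv, ← mul_assoc, (hac t).inv_left.eq, mul_assoc]
    rw [h4, inv_pow, hconj]
  rw [((hac (t * z)).inv_left).mul_pow, htz, inv_pow] at h3
  calc h ^ 2 = h * ((a ^ 3) * ((a ^ 3)⁻¹ * h)) := by rw [pow_two]; group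
    _ = h * (a ^ 3 * h⁻¹) := by rw [h3]
    _ = a ^ 3 := by rw [((hac h⁻¹).pow_left 3).eq, ← mul_assoc, mul_inv_cancel, one_mul]

/-- A lift of `z` with `z ^ 2 = 1` and `(z * t) ^ 3 = 1`. -/
theorem exists_z {A : Subgroup E} (hA : A ≤ center E) {z t q : E} (hq : q⁻¹ * z * q = z)
    (htq : q⁻¹ * t * q = t⁻¹) (ha : z ^ 2 ∈ A) (hh : (z * t) ^ 3 ∈ A) :
    ∃ c ∈ A, (z * c) ^ 2 = 1 ∧ (z * c * t) ^ 3 = 1 := by
  have heq := scalar_eq hq htq (hA ha) (hA hh)
  set a := z ^ 2 with hadef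
  set h := (z * t) ^ 3 with hhdef
  have hc : a * h⁻¹ ∈ A := mul_mem ha (inv_mem hh)
  have hcc : ∀ u : E, Commute (a * h⁻¹) u := fun u => (mem_center_iff.1 (hA hc) u).symm
  have hah : Commute a h := (mem_center_iff.1 (hA ha) h).symm
  refine ⟨a * h⁻¹, hc, ?_, ?_⟩
  · rw [(hcc z).symm.mul_pow, ← hadef, hah.inv_right.mul_pow, inv_pow, heq, ← mul_assoc, ← pow_succ',
      mul_inv_cancel]
  · have h1 : z * (a * h⁻¹) * t = z * t * (a * h⁻¹) := by rw [mul_assoc, (hcc t).eq, ← mul_assoc]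
    rw [h1, (hcc (z * t)).symm.mul_pow, ← hhdef, hah.inv_right.mul_pow, ← heq, inv_pow]
    group

end Cfsg.Agent.HNMult
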