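import Cfsg.Agent.HigSims.Mult.Main
import Cfsg.Agent.StemCert.Split
import Cfsg.Prelude.Def_SporadicB
import Cfsg.Prelude.Def_KGroupFacts

/-!
A nonsplit double cover of the Higman–Sims group is perfect and has trivial multiplier.
-/

set_option autoImplicit false

namespace Cfsg.Agent.HNMult

open Subgroup
open scoped commutatorElement

/-- A group surjecting onto a non-abelian simple group has derived subgroup onto it. -/
theorem commutator_map_top {Γ Q : Type*} [Group Γ] [Group Q] {f : Γ →* Q}
    (hf : Function.Surjective f) (hQ : commutator Q = ⊤) : (commutator Γ).map f = ⊤ := by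
  rw [_root_.commutator_def, Subgroup.map_commutator, Subgroup.map_top_of_surjective f hf, ← _root_.commutator_def,
    hQ]

/-- The Higman–Sims group is perfect. -/
theorem hs_perfect : commutator ↥Cfsg.Spor.HS = ⊤ := by
  have hsimp : IsSimpleGroup ↥Cfsg.Spor.HS := HigSims.card_and_simple.2
  rcases hsimp.eq_bot_or_eq_top_of_normal _ (Subgroup.commutator_normal ⊤ ⊤) with h | h
  · exfalso
    have hc : ∀ a b : ↥Cfsg.Spor.HS, a * b = b * a := by
      intro a b
      have hmem : ⁅a, b⁆ ∈ ⁅(⊤ : Subgroup ↥Cfsg.Spor.HS), ⊤⁆ :=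
        Subgroup.commutator_mem_commutator (Subgroup.mem_top a) (Subgroup.mem_top b)
      rw [h, Subgroup.mem_bot] at hmem
      exact commutatorElement_eq_one_iff_mul_comm.1 hmem
    letI : CommGroup ↥Cfsg.Spor.HS := { (inferInstance : Group ↥Cfsg.Spor.HS) with mul_comm := hc }
    have hp : (Nat.card ↥Cfsg.Spor.HS).Prime := IsSimpleGroup.prime_card
    rw [HigSims.card_and_simple.1] at hp
    norm_num at hp
  · exact h

/-- A nonsplit double cover of the Higman–Sims group is perfect. -/
theorem cover_perfect {K : Type*} [Group K] (h : Cfsg.IsNonsplitDoubleCover K ↥Cfsg.Spor.HS) :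
    commutator K = ⊤ := by
  obtain ⟨hcard, ⟨e⟩, hns⟩ := h
  set f : K →* ↥Cfsg.Spor.HS := e.toMonoidHom.comp (QuotientGroup.mk' (center K)) with hfdef
  have hf : Function.Surjective f := e.surjective.comp QuotientGroup.mk_surjective
  have hker : f.ker = center K := by
    exact (MonoidHom.ker_mulEquiv_comp _ e).trans (QuotientGroup.ker_mk' _)
  have hcov : ∀ g : K, ∃ z ∈ center K, ∃ u ∈ commutator K, g = z * u := by
    intro g
    have : f g ∈ (commutator K).map f := by rw [commutator_map_top hf hs_perfect]; trivial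
    obtain ⟨u, hu, hug⟩ := this
    refine ⟨g * u⁻¹, ?_, u, hu, by group⟩
    rw [← hker, MonoidHom.mem_ker, map_mul, map_inv, hug, mul_inv_cancel]
  by_cases hle : center K ≤ commutator K
  · refine eq_top_iff.2 fun g _ => ?_
    obtain ⟨z, hz, u, hu, rfl⟩ := hcov g
    exact mul_mem (hle hz) hu
  · exfalso
    have hd : center K ⊓ commutator K = ⊥ := by
      by_contra hne
      have hdvd : Nat.card ↥(center K ⊓ commutator K) ∣ 2 := hcard ▸ card_dvd_of_le inf_le_left
      rcases (Nat.dvd_prime Nat.prime_two).1 hdvd with h1 | h2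
      · exact hne (Subgroup.card_eq_one.1 h1)
      · have : Finite ↥(center K) := Nat.finite_of_card_ne_zero (by rw [hcard]; norm_num)
        exact hle (le_inf_iff.1 (Subgroup.eq_of_le_of_card_ge inf_le_left (by omega)).ge).2
    exact hns (commutator K) (isComplement'_of_disjoint_and_mul_eq_univ (disjoint_iff.2 hd)
      (Set.eq_univ_of_forall fun g => by
        obtain ⟨z, hz, u, hu, rfl⟩ := hcov g
        exact Set.mul_mem_mul hz hu))

/-- The double cover of the Higman–Sims group has trivial multiplier. -/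
theorem cover_mult {K : Type} [Group K] [Finite K] (h : Cfsg.IsNonsplitDoubleCover K ↥Cfsg.Spor.HS) :
    Cfsg.HasCyclicSchurMultiplier K 1 := by
  have hperf := cover_perfect h
  obtain ⟨hcard, ⟨e⟩, -⟩ := h
  refine ⟨⟨K, inferInstance, inferInstance, MonoidHom.id K, ⟨Function.surjective_id, ?_, ?_⟩, ?_⟩, ?_⟩
  · simp
  · simp
  · rw [MonoidHom.ker_id]
    exact ⟨MulEquiv.ofUnique⟩
  intro Γ _ _ σ hσ
  obtain ⟨hs, hz, hc⟩ := hσ
  have hΓ : commutator Γ = ⊤ := by
    refine eq_top_iff.2 fun g _ => ?_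
    have : σ g ∈ (commutator Γ).map σ := by rw [commutator_map_top hs hperf]; trivial
    obtain ⟨u, hu, hug⟩ := this
    have hk : g * u⁻¹ ∈ σ.ker := by rw [MonoidHom.mem_ker, map_mul, map_inv, hug, mul_inv_cancel]
    have := mul_mem (hc hk) hu
    simpa using this
  set f : K →* ↥Cfsg.Spor.HS := e.toMonoidHom.comp (QuotientGroup.mk' (center K)) with hfdef
  have hfs : Function.Surjective f := e.surjective.comp QuotientGroup.mk_surjective
  have hfk : f.ker = center K := by
    exact (MonoidHom.ker_mulEquiv_comp _ e).trans (QuotientGroup.ker_mk' _)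
  have hstem : Cfsg.IsStemExtension (f.comp σ) := by
    refine ⟨hfs.comp hs, fun d hd => ?_, by rw [hΓ]; exact le_top⟩
    have hσd : σ d ∈ center K := by
      rw [← hfk]
      exact hd
    -- the commutator with `d` is a homomorphism into the kernel of `σ`
    have hk : ∀ u : Γ, d * u * d⁻¹ * u⁻¹ ∈ σ.ker := fun u => by
      rw [MonoidHom.mem_ker, map_mul, map_mul, map_mul, map_inv, map_inv, ← mem_center_iff.1 hσd (σ u)]
      group
    obtain ⟨φ, hφ⟩ : ∃ φ : Γ →* ↥(center Γ), ∀ u, (φ u : Γ) = d * u * d⁻¹ * u⁻¹ :=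
      ⟨{ toFun := fun u => ⟨d * u * d⁻¹ * u⁻¹, hz (hk u)⟩
         map_one' := by ext; simp
         map_mul' := fun u w => by
           ext
           show d * (u * w) * d⁻¹ * (u * w)⁻¹ = d * u * d⁻¹ * u⁻¹ * (d * w * d⁻¹ * w⁻¹)
           have hw := mem_center_iff.1 (hz (hk w)) u⁻¹
           calc d * (u * w) * d⁻¹ * (u * w)⁻¹ = d * u * d⁻¹ * ((d * w * d⁻¹ * w⁻¹) * u⁻¹) := by group
             _ = d * u * d⁻¹ * (u⁻¹ * (d * w * d⁻¹ * w⁻¹)) := by rw [← hw]
             _ = _ := by group }, fun _ => rfl⟩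
    refine mem_center_iff.2 fun u => ?_
    have hu : φ u = 1 := by
      have : u ∈ φ.ker := by
        have hle : commutator Γ ≤ φ.ker := by
          rw [_root_.commutator_def, commutator_le]
          intro a _ b _
          rw [MonoidHom.mem_ker, map_commutatorElement, commutatorElement_eq_one_iff_mul_comm]
          exact Subtype.ext (mem_center_iff.1 (φ b).2 (φ a : Γ))
        exact hle (hΓ ▸ Subgroup.mem_top u)
      exact this
    have h1 : d * u * d⁻¹ * u⁻¹ = 1 := by rw [← hφ u, hu]; rfl
    calc u * d = (d * u * d⁻¹ * u⁻¹)⁻¹ * (d * u) := by group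
      _ = d * u := by rw [h1]; group
  obtain ⟨π, hπ⟩ := (HigSims.Mult.multiplier).2 Γ (f.comp σ) hstem
  have hle : Nat.card ↥(f.comp σ).ker ≤ 2 := by
    refine le_trans (Nat.card_le_card_of_surjective π hπ) ?_
    simp [Nat.card_eq_fintype_card]
  -- the kernel maps onto the centre
  let r : ↥(f.comp σ).ker →* ↥(center K) :=
    (σ.comp (f.comp σ).ker.subtype).codRestrict (center K) fun d => by
      rw [← hfk]
      exact d.2
  have hr : Function.Surjective r := fun k => by
    obtain ⟨d, hd⟩ := hs (k : K)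
    have hk : (k : K) ∈ f.ker := by rw [hfk]; exact k.2
    refine ⟨⟨d, ?_⟩, Subtype.ext hd⟩
    show f (σ d) = 1
    rw [hd]
    exact hk
  have hrk : r.ker = ⊥ := by
    have h2 : Nat.card ↥r.ker * 2 = Nat.card ↥(f.comp σ).ker := by
      rw [← hcard, ← Nat.card_congr (QuotientGroup.quotientKerEquivOfSurjective r hr).toEquiv, mul_comm,
        ← Subgroup.card_eq_card_quotient_mul_card_subgroup]
    have : 0 < Nat.card ↥r.ker := Nat.card_pos
    exact Subgroup.card_eq_one.1 (by omega)
  have hbot : σ.ker = ⊥ := by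
    refine eq_bot_iff.2 fun d hd => ?_
    have hd' : d ∈ (f.comp σ).ker := by
      show f (σ d) = 1
      rw [MonoidHom.mem_ker.1 hd, map_one]
    have : (⟨d, hd'⟩ : ↥(f.comp σ).ker) ∈ r.ker := Subtype.ext hd
    rw [hrk, mem_bot] at this
    exact mem_bot.2 (congrArg Subtype.val this)
  refine ⟨1, fun k => ⟨1, ?_⟩⟩
  ext
  have : (k : Γ) ∈ (⊥ : Subgroup Γ) := hbot ▸ k.2
  simpa using (mem_bot.1 this).symm

end Cfsg.Agent.HNMult
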