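import Cfsg.Agent.HNMult.Core
import Cfsg.Agent.HNOrder.XFour
import Cfsg.Agent.HNMult.Cover
import Cfsg.Prelude.Def_Spor_HN
import Cfsg.Prelude.Def_Sporadic

/-!
The multiplier of the presented Harada–Norton group is trivial, granted the shape of `⟨x, y, z⟩` and that the group is
simple of the expected order: the preimage of the double cover of the Higman–Sims group splits, so the relators in
`x`, `y` hold in a stem extension, and the scalars of the others can be removed.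
-/

set_option autoImplicit false
set_option linter.constructorNameAsVariable false

namespace Cfsg.Agent.HNMult

open Subgroup
open scoped commutatorElement

/-- The relators. -/
abbrev rels : Set (FreeGroup Cfsg.Spor.HN.Gen) :=
  Cfsg.Spor.coxRelators Cfsg.Spor.HN.edges ∪ {r | r ∈ Cfsg.Spor.HN.extra}

/-- The generators. -/
abbrev gen (i : Cfsg.Spor.HN.Gen) : Cfsg.Spor.HN := PresentedGroup.of i

/-- The subgroup generated by `x`, `y`, `z`. -/
abbrev sub3 : Subgroup Cfsg.Spor.HN :=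
  (Subgroup.closure ({Cfsg.Spor.HN.x, Cfsg.Spor.HN.y, Cfsg.Spor.HN.z} :
    Set (FreeGroup Cfsg.Spor.HN.Gen))).map (PresentedGroup.mk rels)

theorem gen_mem (i : Cfsg.Spor.HN.Gen) (hi : i ≠ .t) : gen i ∈ sub3 :=
  ⟨FreeGroup.of i, subset_closure (by cases i <;> simp_all [Cfsg.Spor.HN.x, Cfsg.Spor.HN.y, Cfsg.Spor.HN.z]), rfl⟩

theorem mk_extra {r : FreeGroup Cfsg.Spor.HN.Gen} (hr : r ∈ Cfsg.Spor.HN.extra) :
    PresentedGroup.mk rels r = 1 :=
  PresentedGroup.one_of_mem (Or.inr hr)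

section Rels

local notation "gx" => gen Cfsg.Spor.HN.Gen.x
local notation "gy" => gen Cfsg.Spor.HN.Gen.y
local notation "gz" => gen Cfsg.Spor.HN.Gen.z
local notation "gt" => gen Cfsg.Spor.HN.Gen.t

theorem rel_list :
    gy ^ 6 = 1 ∧ gx ^ 2 * gy * gx ^ 2 * gy⁻¹ = 1 ∧ (gx⁻¹ * gy⁻¹ * gx * gy) ^ 3 = 1 ∧
    (gx⁻¹ * gy ^ 2 * gx * gy ^ 3) ^ 3 = 1 ∧ (gx * gy) ^ 8 = 1 ∧ (gx * gy * gx * gy ^ 3) ^ 4 = 1 ∧
    gz ^ 2 = 1 ∧ (gz * gx) ^ 2 = 1 ∧
    gz⁻¹ * (gy * gx * gy * gx * gy ^ 2 * gx * gy⁻¹)⁻¹ * gz * (gy * gx * gy * gx * gy ^ 2 * gx * gy⁻¹) *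
      (gx ^ 2)⁻¹ = 1 ∧
    gz * (((gy ^ 3 * gx * gy * gx * gy)⁻¹ * gz * (gy ^ 3 * gx * gy * gx * gy)) * gx) ^ 3 = 1 ∧
    gt ^ 5 = 1 ∧ gx⁻¹ * gt * gx * gt ^ 2 = 1 ∧ gt⁻¹ * gy⁻¹ * gt * gy = 1 ∧ (gz * gt) ^ 3 = 1 := by
  refine ⟨?_, ?_, ?_, ?_, ?_, ?_, ?_, ?_, ?_, ?_, ?_, ?_, ?_, ?_⟩ <;>
    · simp only [gen, PresentedGroup.of, ← map_mul, ← map_inv, ← map_pow]
      exact mk_extra (by simp [Cfsg.Spor.HN.extra, Cfsg.Spor.HN.x, Cfsg.Spor.HN.y, Cfsg.Spor.HN.z,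
        Cfsg.Spor.HN.t])

/-- The fourth power of `x` is one. -/
theorem x_four : gx ^ 4 = (1 : Cfsg.Spor.HN) := HNOrder.x_pow_four

/-- The fourth power of `x` is one in HN. -/
theorem x_pow_four (_hG : Cfsg.IsHN Cfsg.Spor.HN) : gx ^ 4 = (1 : Cfsg.Spor.HN) := HNOrder.x_pow_four

/-- The index-two subgroup contains `x` and `y`. -/
theorem x_y_mem (K : Subgroup sub3) (hK : K.index = 2) :
    (⟨gx, gen_mem _ (by simp)⟩ : sub3) ∈ K ∧ (⟨gy, gen_mem _ (by simp)⟩ : sub3) ∈ K := by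
  obtain ⟨-, -, -, r4, -, -, -, -, -, r10, -, -, -, -⟩ := rel_list
  set a : sub3 := ⟨gx, gen_mem _ (by simp)⟩ with ha
  set b : sub3 := ⟨gy, gen_mem _ (by simp)⟩ with hb
  set c : sub3 := ⟨gz, gen_mem _ (by simp)⟩ with hc
  have h4 : (a⁻¹ * b ^ 2 * a * b ^ 3) ^ 3 ∈ K := by
    rw [show (a⁻¹ * b ^ 2 * a * b ^ 3) ^ 3 = 1 from Subtype.ext r4]
    exact one_mem _
  have h10 : c * (((b ^ 3 * a * b * a * b)⁻¹ * c * (b ^ 3 * a * b * a * b)) * a) ^ 3 ∈ K := by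
    rw [show c * (((b ^ 3 * a * b * a * b)⁻¹ * c * (b ^ 3 * a * b * a * b)) * a) ^ 3 = 1 from Subtype.ext r10]
    exact one_mem _
  simp only [pow_succ, pow_zero, one_mul, Subgroup.mul_mem_iff_of_index_two hK, inv_mem_iff] at h4 h10
  tauto

/-- The multiplier is trivial. -/
theorem multiplier [hfin : Finite Cfsg.Spor.HN]
    (hP : ∃ K : Subgroup sub3, K.Normal ∧ K.index = 2 ∧ Cfsg.IsNonsplitDoubleCover K ↥Cfsg.Spor.HS) :
    Cfsg.HasCyclicSchurMultiplier Cfsg.Spor.HN 1 := by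
  refine ⟨⟨Cfsg.Spor.HN, inferInstance, hfin, MonoidHom.id _, ⟨Function.surjective_id, ?_, ?_⟩, ?_⟩, ?_⟩
  · simp
  · simp
  · rw [MonoidHom.ker_id]
    exact ⟨MulEquiv.ofUnique⟩
  intro Γ _ _ σ hσ
  obtain ⟨hs, hz, hc⟩ := id hσ
  obtain ⟨K, hKn, hK2, hKc⟩ := hP
  obtain ⟨hxK, hyK⟩ := x_y_mem K hK2
  -- the double cover as a subgroup of the whole group
  set K' : Subgroup Cfsg.Spor.HN := K.map sub3.subtype with hK'
  let eK : ↥K' ≃* ↥K := (equivMapOfInjective K sub3.subtype sub3.subtype_injective).symm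
  have hperf : commutator ↥K' = ⊤ := by
    have := commutator_map_top (f := eK.toMonoidHom) eK.surjective (cover_perfect hKc)
    refine eq_top_iff.2 fun g _ => ?_
    have hg : eK g ∈ (commutator ↥K').map eK.toMonoidHom := by rw [this]; trivial
    obtain ⟨g', hg', he⟩ := hg
    rwa [← eK.injective he]
  have hmult : Cfsg.HasCyclicSchurMultiplier ↥K' 1 := by
    refine ⟨⟨↥K', inferInstance, inferInstance, MonoidHom.id _, ⟨Function.surjective_id, ?_, ?_⟩, ?_⟩, ?_⟩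
    · simp
    · simp
    · rw [MonoidHom.ker_id]
      exact ⟨MulEquiv.ofUnique⟩
    intro Δ _ _ τ hτ
    have hk : (eK.toMonoidHom.comp τ).ker = τ.ker := MonoidHom.ker_mulEquiv_comp τ eK
    have hτ' : Cfsg.IsStemExtension (eK.toMonoidHom.comp τ) :=
      ⟨eK.surjective.comp hτ.1, by rw [hk]; exact hτ.2.1, by rw [hk]; exact hτ.2.2⟩
    obtain ⟨π, hπ⟩ := (cover_mult hKc).2 Δ _ hτ'
    exact ⟨(MulEquiv.subgroupCongr hk).toMonoidHom.comp π, (MulEquiv.subgroupCongr hk).surjective.comp hπ⟩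
  -- its lift
  set H : Subgroup Γ := K'.comap σ with hH
  obtain ⟨ρ, hρ⟩ : ∃ ρ : ↥H →* ↥σ.ker, ∀ (z : Γ) (hz : z ∈ σ.ker) (hzP : z ∈ H), ρ ⟨z, hzP⟩ = ⟨z, hz⟩ :=
    StemCert.exists_retraction hperf hmult σ hσ
  set D : Subgroup Γ := ⁅H, H⁆ with hDdef
  have hD0 : ∀ d ∈ D, σ d = 1 → d = 1 := by
    intro d hd h1
    rw [hDdef, ← map_subtype_commutator] at hd
    obtain ⟨d', hd', rfl⟩ := hd
    have hle : commutator ↥H ≤ ρ.ker := by
      rw [_root_.commutator_def, commutator_le]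
      intro a _ b _
      rw [MonoidHom.mem_ker, map_commutatorElement, commutatorElement_eq_one_iff_mul_comm]
      exact Subtype.ext (mem_center_iff.1 (hz (ρ b).2) (ρ a : Γ))
    have h2 : ρ d' = ⟨(d' : Γ), h1⟩ := hρ d' h1 d'.2
    have h3 : ρ d' = 1 := hle hd'
    rw [h3] at h2
    exact (congrArg Subtype.val h2).symm
  have hD1 : ∀ k ∈ K', ∃ d ∈ D, σ d = k := by
    have hmap : D.map σ = K' := by
      rw [hDdef, Subgroup.map_commutator, hH, map_comap_eq_self_of_surjective hs, ← map_subtype_commutator,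
        hperf, ← MonoidHom.range_eq_map, range_subtype]
    intro k hk
    rw [← hmap] at hk
    obtain ⟨d, hd, he⟩ := hk
    exact ⟨d, hd, he⟩
  have hDn : ∀ g : Γ, σ g ∈ sub3 → ∀ d ∈ D, g * d * g⁻¹ ∈ D := by
    intro g hg d hd
    have hHg : ∀ a ∈ H, g * a * g⁻¹ ∈ H := by
      intro a ha
      rw [hH, mem_comap] at ha ⊢
      obtain ⟨k, hk, he⟩ := ha
      refine ⟨⟨σ g, hg⟩ * k * ⟨σ g, hg⟩⁻¹, hKn.conj_mem k hk _, ?_⟩
      rw [map_mul, map_mul, map_inv, map_mul, map_mul, map_inv, he]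
      rfl
    have : ⁅H, H⁆ ≤ ⁅H, H⁆.comap (MulAut.conj g).toMonoidHom :=
      commutator_le.2 fun a ha b hb => by
        show MulAut.conj g ⁅a, b⁆ ∈ ⁅H, H⁆
        rw [map_commutatorElement]
        exact commutator_mem_commutator (hHg a ha) (hHg b hb)
    exact this hd
  -- lifts
  obtain ⟨X, hX, hXσ⟩ := hD1 gx ⟨_, hxK, rfl⟩
  obtain ⟨Y, hY, hYσ⟩ := hD1 gy ⟨_, hyK, rfl⟩
  obtain ⟨Z0, hZ0⟩ := hs gz
  obtain ⟨T0, hT0⟩ := hs gt
  obtain ⟨r1, r2, r3, r4, r5, r6, r7, r8, r9, r10, r11, r12, r13, r14⟩ := rel_list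
  have hX4 : X ^ 4 = 1 := hD0 _ (pow_mem hX 4) (by rw [map_pow, hXσ]; exact x_four)
  have hY6 : Y ^ 6 = 1 := hD0 _ (pow_mem hY 6) (by rw [map_pow, hYσ, r1])
  obtain ⟨d, hdA, hT5, hTX⟩ := exists_t hz (A := σ.ker) (x := X) (t := T0)
    (by rw [MonoidHom.mem_ker, map_pow, hT0, r11])
    (by rw [MonoidHom.mem_ker, map_mul, map_mul, map_mul, map_inv, map_pow, hXσ, hT0, r12])
  set T := T0 * d with hTdef
  have hT : σ T = gt := by rw [hTdef, map_mul, MonoidHom.mem_ker.1 hdA, mul_one, hT0]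
  have hTY : T⁻¹ * Y⁻¹ * T * Y = 1 := comm_ty hT5 hY6 (hz (by
    rw [MonoidHom.mem_ker, map_mul, map_mul, map_mul, map_inv, map_inv, hT, hYσ, r13]))
  have hZX : Z0⁻¹ * X * Z0 = X⁻¹ := by
    have hm : Z0⁻¹ * X * Z0 * X ∈ D := by
      have := hDn Z0⁻¹ (by rw [map_inv, hZ0]; exact inv_mem (gen_mem _ (by simp))) X hX
      rw [inv_inv] at this
      exact mul_mem this hX
    refine eq_inv_of_mul_eq_one_left (hD0 _ hm ?_)
    have h : gz⁻¹ = gz := inv_eq_of_mul_eq_one_right (by rw [← pow_two]; exact r7)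
    rw [map_mul, map_mul, map_mul, map_inv, hZ0, hXσ, h, ← r8, pow_two]
    group
  have hq : (X ^ 2)⁻¹ * Z0 * X ^ 2 = Z0 := by
    calc (X ^ 2)⁻¹ * Z0 * X ^ 2 = Z0 * ((Z0⁻¹ * X * Z0) ^ 2)⁻¹ * X ^ 2 := by simp only [pow_two]; group
      _ = Z0 * X ^ 4 := by rw [hZX]; group
      _ = Z0 := by rw [hX4, mul_one]
  have hqt : (X ^ 2)⁻¹ * T * X ^ 2 = T⁻¹ := by
    have h1 : X⁻¹ * T * X = (T ^ 2)⁻¹ := eq_inv_of_mul_eq_one_left hTX
    calc (X ^ 2)⁻¹ * T * X ^ 2 = X⁻¹ * (X⁻¹ * T * X) * X := by simp only [pow_two, mul_inv_rev, mul_assoc]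
      _ = X⁻¹ * (T ^ 2)⁻¹ * X := by rw [h1]
      _ = ((X⁻¹ * T * X) ^ 2)⁻¹ := by simp only [pow_two]; group
      _ = (((T ^ 2)⁻¹) ^ 2)⁻¹ := by rw [h1]
      _ = T ^ 4 := by group
      _ = T⁻¹ := eq_inv_of_mul_eq_one_left (by rw [← hT5]; group)
  obtain ⟨c, hcA, hZ2, hZT⟩ := exists_z hz (A := σ.ker) (z := Z0) (t := T) hq hqt
    (by rw [MonoidHom.mem_ker, map_pow, hZ0, r7]) (by rw [MonoidHom.mem_ker, map_pow, map_mul, hZ0, hT, r14])
  set Z := Z0 * c with hZdef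
  have hZ : σ Z = gz := by rw [hZdef, map_mul, MonoidHom.mem_ker.1 hcA, mul_one, hZ0]
  have hZn : ∀ e ∈ D, Z⁻¹ * e * Z ∈ D := fun e he => by
    have := hDn Z⁻¹ (by rw [map_inv, hZ]; exact inv_mem (gen_mem _ (by simp))) e he
    rwa [inv_inv] at this
  have hZi : Z⁻¹ = Z := inv_eq_of_mul_eq_one_right (by rw [← pow_two]; exact hZ2)
  set W := Y * X * Y * X * Y ^ 2 * X * Y⁻¹ with hWdef
  have hW : W ∈ D := by
    rw [hWdef]
    exact mul_mem (mul_mem (mul_mem (mul_mem (mul_mem (mul_mem hY hX) hY) hX) (pow_mem hY 2)) hX) (inv_mem hY)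
  set V := Y ^ 3 * X * Y * X * Y with hVdef
  have hV : V ∈ D := by
    rw [hVdef]
    exact mul_mem (mul_mem (mul_mem (mul_mem (pow_mem hY 3) hX) hY) hX) hY
  let f : Cfsg.Spor.HN.Gen → Γ := fun i => match i with
    | .x => X
    | .y => Y
    | .z => Z
    | .t => T
  have hf : ∀ r ∈ rels, FreeGroup.lift f r = 1 := by
    intro r hr
    rcases hr with hr | hr
    · obtain ⟨a, ha, -⟩ := hr
      simp [Cfsg.Spor.coxNodes, Cfsg.Spor.HN.edges] at ha
    · simp only [Cfsg.Spor.HN.extra, Set.mem_setOf_eq, List.mem_cons, List.not_mem_nil, or_false] at hr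
      rcases hr with rfl | rfl | rfl | rfl | rfl | rfl | rfl | rfl | rfl | rfl | rfl | rfl | rfl | rfl <;>
        simp only [Cfsg.Spor.HN.x, Cfsg.Spor.HN.y, Cfsg.Spor.HN.z, Cfsg.Spor.HN.t, map_mul, map_inv, map_pow,
          FreeGroup.lift_apply_of, f]
      · exact hY6
      · exact hD0 _ (mul_mem (mul_mem (mul_mem (pow_mem hX 2) hY) (pow_mem hX 2)) (inv_mem hY))
          (by simp only [map_mul, map_inv, map_pow, hXσ, hYσ]; exact r2)
      · exact hD0 _ (pow_mem (mul_mem (mul_mem (mul_mem (inv_mem hX) (inv_mem hY)) hX) hY) 3)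
          (by simp only [map_mul, map_inv, map_pow, hXσ, hYσ]; exact r3)
      · exact hD0 _ (pow_mem (mul_mem (mul_mem (mul_mem (inv_mem hX) (pow_mem hY 2)) hX) (pow_mem hY 3)) 3)
          (by simp only [map_mul, map_inv, map_pow, hXσ, hYσ]; exact r4)
      · exact hD0 _ (pow_mem (mul_mem hX hY) 8) (by simp only [map_mul, map_pow, hXσ, hYσ]; exact r5)
      · exact hD0 _ (pow_mem (mul_mem (mul_mem (mul_mem hX hY) hX) (pow_mem hY 3)) 4)
          (by simp only [map_mul, map_pow, hXσ, hYσ]; exact r6)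
      · exact hZ2
      · refine hD0 _ ?_ (by simp only [map_mul, map_pow, hXσ, hZ]; exact r8)
        have : (Z * X) ^ 2 = Z⁻¹ * X * Z * X := by rw [hZi, pow_two]; group
        rw [this]
        exact mul_mem (hZn X hX) hX
      · refine hD0 _ ?_ (by simp only [map_mul, map_inv, map_pow, hXσ, hYσ, hZ]; exact r9)
        rw [← hWdef]
        exact mul_mem (mul_mem (hZn _ (inv_mem hW)) hW) (inv_mem (pow_mem hX 2))
      · refine hD0 _ ?_ (by simp only [map_mul, map_inv, map_pow, hXσ, hYσ, hZ]; exact r10)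
        rw [← hVdef]
        set k := Z⁻¹ * V⁻¹ * Z * V * X with hk
        have hkD : k ∈ D := mul_mem (mul_mem (hZn _ (inv_mem hV)) hV) hX
        have : Z * (V⁻¹ * Z * V * X) ^ 3 = k * (Z⁻¹ * k * Z) * k := by
          calc Z * (V⁻¹ * Z * V * X) ^ 3 = Z * (Z * k) ^ 3 := by
                congr 2
                rw [hk]; group
            _ = Z ^ 2 * k * (Z * k * Z) * k := by simp only [pow_succ, pow_zero, one_mul]; group
            _ = _ := by rw [hZ2, one_mul, hZi]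
        rw [this]
        exact mul_mem (mul_mem hkD (hZn _ hkD)) hkD
      · exact hT5
      · exact hTX
      · exact hTY
      · exact hZT
  set φ : Cfsg.Spor.HN →* Γ := PresentedGroup.toGroup hf with hφ
  have hσφ : ∀ g, σ (φ g) = g := by
    have : σ.comp φ = MonoidHom.id _ := by
      refine PresentedGroup.ext fun i => ?_
      rw [MonoidHom.comp_apply, hφ, PresentedGroup.toGroup.of]
      cases i
      exacts [hXσ, hYσ, hZ, hT]
    exact fun g => DFunLike.congr_fun this g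
  have hker : σ.ker = ⊥ := by
    refine eq_bot_iff.2 fun a ha => ?_
    have hsub : commutator Γ ≤ φ.range := by
      rw [_root_.commutator_def, commutator_le]
      intro g₁ _ g₂ _
      have h : ∀ g, (φ (σ g))⁻¹ * g ∈ center Γ := fun g => hz (by
        rw [MonoidHom.mem_ker, map_mul, map_inv, hσφ, inv_mul_cancel])
      have e : ∀ g, g = φ (σ g) * ((φ (σ g))⁻¹ * g) := fun g => by group
      rw [e g₁, e g₂, StemCert.commutator_mul_central _ _ (h g₁) (h g₂), ← map_commutatorElement]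
      exact ⟨_, rfl⟩
    obtain ⟨g, rfl⟩ := hsub (hc ha)
    rw [MonoidHom.mem_ker, hσφ] at ha
    rw [mem_bot, ha, map_one]
  refine ⟨1, fun k => ⟨1, ?_⟩⟩
  ext
  have : (k : Γ) ∈ (⊥ : Subgroup Γ) := hker ▸ k.2
  simpa using (mem_bot.1 this).symm

end Rels

end Cfsg.Agent.HNMult
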